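import Cfsg.Agent.H596.L8.Defs
import Cfsg.Agent.H597.E8Form
import Cfsg.Agent.Nodes.ChevCls

/-!
# `E₈ (q)`, box K3 of `H596.L8` (helper390): the duality of the blocks of `R` and `-R`

* `xMat_dg` : the entries of `x_r(t)` shift the degrees by multiples of `r`;
* `sa_dg` : the elements of `SA K` preserve the degrees at the nodes `4, 5, 6, 7`;
* `blk_mul`, `blk_one`, `blk_pow`, `blk_mul_inv` : `g ↦ blk s g` is multiplicative on `SA K`;
* `entry_dual` : `g (e_{-s}, e_u) = g⁻¹ (e_{-u}, e_s)`;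
* `blk_neg_charpoly` : `(blk (-1) g).charpoly = (blk 1 g⁻¹).charpoly`.
-/

set_option autoImplicit false
set_option linter.unusedSectionVars false

namespace Cfsg.Agent.H390.L8

open Cfsg CoxeterSystem Cfsg.Agent.ChevalleyStructure.CoxeterGeom Cfsg.Agent.Tits.Roots Cfsg.Agent.Tits.Core
  Cfsg.Agent.Tits.RootComb Cfsg.Agent.Nodes.Reps Cfsg.Agent.Nodes.BNOf
  Cfsg.Agent.Nodes.StabComb Cfsg.Agent.Nodes.Bruhat Cfsg.Agent.Nodes.LeviDec Cfsg.Agent.H35.Poin
  Cfsg.Agent.H35.PoinNum Cfsg.Agent.H35.ExcIdx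
  Cfsg.Agent.ChevalleyStructure.CoxeterGeomTypes Cfsg.Lie
open Cfsg.Agent.Nodes.RGDChev Cfsg.Agent.ChevalleyStructure.NPerm
open Cfsg.Agent.ChevalleyStructure Cfsg.Agent.ChevalleyStructure.Elts
open Cfsg.Agent.ChevalleyStructure.Columns Cfsg.Agent.ChevalleyStructure.RootVec
open Cfsg.Agent.H596.L8
open Cfsg.Agent.H597.E8Form (rv rv_rv rv_val J J_rr J_transpose J_mul_xMat sum_J_rr sum_rr_J inv_gen lt240)

universe u

variable {K : Type u} [Field K]

/-! ### the degrees -/

theorem dg_inl (i : Fin chevE8.rank) : dg (Sum.inl i) = 0 := rfl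

theorem dg_inr (r : Fin chevE8.nroots) : dg (Sum.inr r) = vec chevE8 8 r := rfl

theorem dg_inr_apply (r : Fin chevE8.nroots) (k : Fin 8) : dg (Sum.inr r) k = rt chevE8 r k := rfl

theorem rv_negIdx (s : Fin chevE8.nroots) : (rv s).val = chevE8.negIdx.getD s.val 0 := by
  rw [rv_val, Cfsg.Agent.H597.E8Form.neg_eq s.val (lt240 s)]

theorem rv_neg (s : Fin chevE8.nroots) : (rv s).val = chevE8.neg s.val := by
  rw [rv_negIdx]
  unfold ChevalleyDatum.neg
  rfl

theorem dg_rv (s : Fin chevE8.nroots) : dg (Sum.inr (rv s)) = - dg (Sum.inr s) := by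
  rw [dg_inr, dg_inr, rv_neg]
  exact vec_neg hpE8 s.2

theorem chSum_ne_zero {f : ℕ → K} {t : K} : ∀ {k : ℕ} {l : List (ℕ × ℤ)}, chSum f t k l ≠ 0 →
    ∃ e ∈ l, f e.1 ≠ 0 := by
  intro k l h
  by_contra h1
  push Not at h1
  apply h
  rw [chSum_congr f (fun _ => 0) t k l h1]
  clear h h1
  induction l generalizing k with
  | nil => rfl
  | cons e l ih => rw [chSum_cons, ih]; ring

/-- the entries of `x_r(t)` -/
theorem xMat_dg (r : Fin chevE8.nroots) (t : K) (i j : chevE8.Idx) (h : chevE8.xMat K r t i j ≠ 0) :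
    ∃ n : ℤ, ∀ k : Fin 8, dg i k = dg j k + n * rt chevE8 r k := by
  have hC := hpE8.checked
  rcases j with j | s
  · rcases i with i | u
    · exact ⟨0, fun k => by rw [dg_inl, dg_inl]; simp⟩
    · rw [xMat_inr_inl] at h
      have h1 : u = r := by
        by_contra h1
        rw [if_neg h1] at h
        exact h rfl
      subst h1
      exact ⟨1, fun k => by rw [dg_inl, dg_inr_apply]; simp⟩
  · rcases i with i | u
    · rw [xMat_inl_inr] at h
      by_cases h1 : s = r
      · rw [if_pos h1] at h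
        exact absurd rfl h
      rw [if_neg h1] at h
      by_cases h2 : s.val = chevE8.negIdx.getD r.val 0
      · have h3 : s = rv r := Fin.ext (by rw [h2, rv_negIdx])
        refine ⟨1, fun k => ?_⟩
        rw [h3, dg_rv, dg_inl, Pi.neg_apply, dg_inr_apply]
        simp
      · rw [if_neg h2] at h
        exact absurd rfl h
    · rw [xMat_inr_inr] at h
      by_cases h1 : s = r
      · rw [if_pos h1] at h
        have h2 : u = r := by
          by_contra h2
          rw [if_neg h2] at h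
          exact h rfl
        rw [h1, h2]
        exact ⟨0, fun k => by simp⟩
      rw [if_neg h1] at h
      by_cases h2 : s.val = chevE8.negIdx.getD r.val 0
      · rw [if_pos h2] at h
        by_cases h4 : u = s
        · rw [h4]
          exact ⟨0, fun k => by simp⟩
        rw [if_neg h4] at h
        by_cases h5 : u = r
        · have h3 : s = rv r := Fin.ext (by rw [h2, rv_negIdx])
          refine ⟨2, fun k => ?_⟩
          rw [h3, h5, dg_rv, Pi.neg_apply, dg_inr_apply]
          ring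
        · rw [if_neg h5] at h
          exact absurd rfl h
      · rw [if_neg h2] at h
        by_cases h4 : u = s
        · rw [h4]
          exact ⟨0, fun k => by simp⟩
        rw [if_neg h4, zero_add, chainCoeff_sum chevE8 r.val (Cfsg.Agent.H597.E8Form.good r.val (lt240 r)).sorted] at h
        obtain ⟨e, he, h5⟩ := chSum_ne_zero h
        have h6 : e.1 = u.val := by
          by_contra h6
          rw [if_neg h6] at h5
          exact h5 rfl
        obtain ⟨n, hn⟩ := List.getElem?_of_mem he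
        obtain ⟨-, -, -, h7⟩ := chainEntry_get hC hn
        refine ⟨((n + 1 : ℕ) : ℤ), fun k => ?_⟩
        rw [dg_inr_apply, dg_inr_apply, ← h6, h7]

/-- block diagonal with respect to the degrees at the nodes `4, …, 7` -/
def BD (M : Matrix chevE8.Idx chevE8.Idx K) : Prop :=
  ∀ i j : chevE8.Idx, M i j ≠ 0 → ∀ k : Fin 8, 4 ≤ (k : ℕ) → dg i k = dg j k

theorem BD.mul {M N : Matrix chevE8.Idx chevE8.Idx K} (hM : BD M) (hN : BD N) : BD (M * N) := by
  intro i j h k hk
  rw [Matrix.mul_apply] at h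
  obtain ⟨l, -, hl⟩ := Finset.exists_ne_zero_of_sum_ne_zero h
  rw [hM i l (left_ne_zero_of_mul hl) k hk, hN l j (right_ne_zero_of_mul hl) k hk]

theorem BD.one : BD (1 : Matrix chevE8.Idx chevE8.Idx K) := by
  intro i j h k _
  have h1 : i = j := by
    by_contra h1
    exact h (Matrix.one_apply_ne h1)
  rw [h1]

theorem mt_mul (g h : chevE8.group K) : mt (g * h) = mt g * mt h := rfl

theorem mt_one : mt (1 : chevE8.group K) = 1 := rfl

theorem mt_mul_inv (g : chevE8.group K) : mt g * mt g⁻¹ = 1 := by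
  rw [← mt_mul, mul_inv_cancel, mt_one]

/-- the elements which preserve the degrees at the nodes `4, …, 7` -/
def QQ (K : Type u) [Field K] : Subgroup (chevE8.group K) where
  carrier := {g | BD (mt g) ∧ BD (mt g⁻¹)}
  mul_mem' := by
    rintro a b ⟨h1, h2⟩ ⟨h3, h4⟩
    refine ⟨h1.mul h3, ?_⟩
    rw [mul_inv_rev]
    exact h4.mul h2
  one_mem' := by
    refine ⟨BD.one, ?_⟩
    rw [inv_one]
    exact BD.one
  inv_mem' := by
    rintro a ⟨h1, h2⟩
    refine ⟨h2, ?_⟩
    rw [inv_inv]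
    exact h1

theorem BD_x {r : ℕ} (hr : r < chevE8.nroots) (h0 : ∀ k : Fin 8, 4 ≤ (k : ℕ) → rt chevE8 r k = 0) (t : K) :
    BD (chevE8.x K r t) := by
  intro i j h k hk
  rw [Cfsg.Agent.ChevalleyStructure.Good.x_eq_xMat r hr] at h
  obtain ⟨n, hn⟩ := xMat_dg ⟨r, hr⟩ t i j h
  rw [hn k, h0 k hk, mul_zero, add_zero]

theorem rootSubgroup_le {r : ℕ} (hr : r < chevE8.nroots) (h0 : ∀ k : Fin 8, 4 ≤ (k : ℕ) → rt chevE8 r k = 0) :
    (chevE8.rootSubgroup K r).subgroupOf (chevE8.group K) ≤ QQ K := by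
  intro g hg
  rw [Subgroup.mem_subgroupOf, Elts.mem_rootSubgroup_iff hpE8.inList] at hg
  obtain ⟨t, ht⟩ := hg
  constructor
  · show BD ((g : GL chevE8.Idx K) : Matrix chevE8.Idx chevE8.Idx K)
    rw [ht]
    exact BD_x hr h0 t
  · show BD (((g⁻¹ : chevE8.group K) : GL chevE8.Idx K) : Matrix chevE8.Idx chevE8.Idx K)
    rw [Subgroup.coe_inv, ht, Elts.xG_inv]
    exact BD_x hr h0 (-t)

theorem SA_le : SA K ≤ QQ K := by
  refine iSup_le ?_
  rintro ⟨j, hj⟩
  have hC := hpE8.checked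
  have hl := simple_lt hpE8.inList (lt_rank hpE8 j)
  have h0 : ∀ k : Fin 8, 4 ≤ (k : ℕ) → rt chevE8 (chevE8.simple j) k = 0 := by
    intro k hk
    rw [rt_simple hC (lt_rank hpE8 j), if_neg]
    intro h
    omega
  refine sup_le ?_ ?_
  · show (XV chevE8 8 K (sr j)).subgroupOf _ ≤ _
    rw [XV_sr hpE8]
    exact rootSubgroup_le hl h0
  · show (XV chevE8 8 K (-sr j)).subgroupOf _ ≤ _
    rw [XV_neg_sr hpE8]
    refine rootSubgroup_le (RootVec.neg_lt hC hl) fun k hk => ?_
    rw [rt_neg hC hl, h0 k hk, neg_zero]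

/-- **(a)** -/
theorem sa_dg {g : chevE8.group K} (hg : g ∈ SA K) (i j : chevE8.Idx) (h : mt g i j ≠ 0) (k : Fin 8)
    (hk : 4 ≤ (k : ℕ)) : dg i k = dg j k :=
  (SA_le hg).1 i j h k hk

theorem InR_iff_of {s : ℤ} {i j : chevE8.Idx} (h : ∀ k : Fin 8, 4 ≤ (k : ℕ) → dg i k = dg j k) :
    InR s i ↔ InR s j := by
  unfold InR
  rw [h 4 (by decide), h 5 (by decide), h 6 (by decide), h 7 (by decide)]

/-! ### the blocks -/

theorem blk_apply (s : ℤ) (g : chevE8.group K) (a b : {i // InR s i}) : blk s g a b = mt g a.1 b.1 := rfl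

/-- **(b)** -/
theorem blk_mul (s : ℤ) {g : chevE8.group K} (hg : g ∈ SA K) (h : chevE8.group K) :
    blk s (g * h) = blk s g * blk s h := by
  ext a b
  rw [blk_apply, mt_mul, Matrix.mul_apply, Matrix.mul_apply]
  have h1 : ∑ l : chevE8.Idx, mt g a.1 l * mt h l b.1 =
      ∑ l ∈ Finset.univ.filter (fun l : chevE8.Idx => InR s l), mt g a.1 l * mt h l b.1 := by
    rw [Finset.sum_filter_of_ne]
    intro l _ hl
    exact (InR_iff_of (sa_dg hg a.1 l (left_ne_zero_of_mul hl))).1 a.2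
  rw [h1, ← Finset.sum_subtype_eq_sum_filter]
  refine Finset.sum_congr ?_ fun l _ => rfl
  ext l
  simp

theorem blk_one (s : ℤ) : blk s (1 : chevE8.group K) = 1 := by
  ext a b
  rw [blk_apply, mt_one]
  by_cases h : a = b
  · subst h
    rw [Matrix.one_apply_eq, Matrix.one_apply_eq]
  · rw [Matrix.one_apply_ne h, Matrix.one_apply_ne (fun h' => h (Subtype.ext h'))]

theorem blk_mul_inv (s : ℤ) {g : chevE8.group K} (hg : g ∈ SA K) : blk s g * blk s g⁻¹ = 1 := by
  rw [← blk_mul s hg, mul_inv_cancel, blk_one]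

theorem blk_pow (s : ℤ) {g : chevE8.group K} (hg : g ∈ SA K) (n : ℕ) : blk s (g ^ n) = blk s g ^ n := by
  induction n with
  | zero => rw [pow_zero, pow_zero, blk_one]
  | succ n ih => rw [pow_succ, blk_mul s (pow_mem hg n), ih, pow_succ]

/-! ### duality -/

/-- the form is invariant -/
theorem inv_all (g : chevE8.group K) : (mt g).transpose * J K * mt g = J K := by
  obtain ⟨g, hg⟩ := g
  show (g : Matrix chevE8.Idx chevE8.Idx K).transpose * J K * (g : Matrix chevE8.Idx chevE8.Idx K) = J K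
  unfold ChevalleyDatum.group at hg
  induction hg using Subgroup.closure_induction with
  | mem x hx =>
    obtain ⟨r, t, h⟩ := hx
    rw [h]
    exact inv_gen r t
  | one => simp
  | mul x y _ _ hx hy =>
    rw [Units.val_mul, Matrix.transpose_mul]
    calc ((y : Matrix chevE8.Idx chevE8.Idx K)).transpose * ((x : Matrix chevE8.Idx chevE8.Idx K)).transpose * J K *
          ((x : Matrix chevE8.Idx chevE8.Idx K) * (y : Matrix chevE8.Idx chevE8.Idx K))
        = ((y : Matrix chevE8.Idx chevE8.Idx K)).transpose * (((x : Matrix chevE8.Idx chevE8.Idx K)).transpose * J K *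
          (x : Matrix chevE8.Idx chevE8.Idx K)) * (y : Matrix chevE8.Idx chevE8.Idx K) := by
          simp only [Matrix.mul_assoc]
      _ = _ := by rw [hx, hy]
  | inv x _ hx =>
    have h1 : (x : Matrix chevE8.Idx chevE8.Idx K) * ((x⁻¹ : GL chevE8.Idx K) : Matrix chevE8.Idx chevE8.Idx K) = 1 := by
      rw [← Units.val_mul, mul_inv_cancel, Units.val_one]
    calc (((x⁻¹ : GL chevE8.Idx K) : Matrix chevE8.Idx chevE8.Idx K)).transpose * J K *
          ((x⁻¹ : GL chevE8.Idx K) : Matrix chevE8.Idx chevE8.Idx K)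
        = (((x⁻¹ : GL chevE8.Idx K) : Matrix chevE8.Idx chevE8.Idx K)).transpose *
          (((x : Matrix chevE8.Idx chevE8.Idx K)).transpose * J K * (x : Matrix chevE8.Idx chevE8.Idx K)) *
          ((x⁻¹ : GL chevE8.Idx K) : Matrix chevE8.Idx chevE8.Idx K) := by rw [hx]
      _ = ((x : Matrix chevE8.Idx chevE8.Idx K) *
          ((x⁻¹ : GL chevE8.Idx K) : Matrix chevE8.Idx chevE8.Idx K)).transpose * J K *
          ((x : Matrix chevE8.Idx chevE8.Idx K) *
          ((x⁻¹ : GL chevE8.Idx K) : Matrix chevE8.Idx chevE8.Idx K)) := by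
          simp only [Matrix.transpose_mul, Matrix.mul_assoc]
      _ = J K := by rw [h1, Matrix.transpose_one, Matrix.one_mul, Matrix.mul_one]

theorem J_mul (g : chevE8.group K) : J K * mt g = (mt g⁻¹).transpose * J K := by
  have h1 := inv_all g
  have h2 : (mt g⁻¹).transpose * (mt g).transpose = 1 := by
    rw [← Matrix.transpose_mul, mt_mul_inv, Matrix.transpose_one]
  calc J K * mt g = ((mt g⁻¹).transpose * (mt g).transpose) * (J K * mt g) := by rw [h2, Matrix.one_mul]
    _ = (mt g⁻¹).transpose * ((mt g).transpose * J K * mt g) := by simp only [Matrix.mul_assoc]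
    _ = _ := by rw [h1]

/-- `g (e_{-s}, e_u) = g⁻¹ (e_{-u}, e_s)` -/
theorem entry_dual (g : chevE8.group K) (s u : Fin chevE8.nroots) :
    mt g (Sum.inr (rv s)) (Sum.inr u) = mt g⁻¹ (Sum.inr (rv u)) (Sum.inr s) := by
  have h := congrFun (congrFun (J_mul g) (Sum.inr s)) (Sum.inr u)
  rw [Matrix.mul_apply, Matrix.mul_apply, Fintype.sum_sum_type, Fintype.sum_sum_type] at h
  simp only [Matrix.transpose_apply] at h
  have h1 : ∀ i : Fin chevE8.rank, J K (Sum.inr s) (Sum.inl i) = 0 := fun _ => rfl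
  have h2 : ∀ i : Fin chevE8.rank, J K (Sum.inl i) (Sum.inr u) = 0 := fun _ => rfl
  simp only [h1, h2, zero_mul, mul_zero, Finset.sum_const_zero, zero_add] at h
  rw [sum_J_rr s (fun w => mt g (Sum.inr w) (Sum.inr u)), sum_rr_J u (fun w => mt g⁻¹ (Sum.inr w) (Sum.inr s))] at h
  exact h

/-- the opposite coordinate -/
def nu : chevE8.Idx → chevE8.Idx
  | Sum.inl i => Sum.inl i
  | Sum.inr s => Sum.inr (rv s)

theorem nu_nu (i : chevE8.Idx) : nu (nu i) = i := by
  rcases i with i | s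
  · rfl
  · show Sum.inr (rv (rv s)) = _
    rw [rv_rv]

theorem dg_nu (i : chevE8.Idx) : dg (nu i) = - dg i := by
  rcases i with i | s
  · show (0 : Fin 8 → ℤ) = -0
    rw [neg_zero]
  · exact dg_rv s

theorem InR_nu {s : ℤ} {i : chevE8.Idx} : InR (-s) (nu i) ↔ InR s i := by
  unfold InR
  simp only [dg_nu, Pi.neg_apply]
  constructor
  · rintro ⟨h1, h2, h3, h4⟩
    exact ⟨by linarith, by linarith, by linarith, by linarith⟩
  · rintro ⟨h1, h2, h3, h4⟩
    exact ⟨by linarith, by linarith, by linarith, by linarith⟩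

theorem InR_inr {i : chevE8.Idx} (h : InR 1 i) : ∃ r, i = Sum.inr r := by
  rcases i with i | r
  · exact absurd h.1 (by rw [dg_inl]; decide)
  · exact ⟨r, rfl⟩

/-- `R ≃ -R` -/
def nuE : {i // InR 1 i} ≃ {i // InR (-1) i} where
  toFun a := ⟨nu a.1, InR_nu.2 a.2⟩
  invFun b := ⟨nu b.1, by
    have h := InR_nu.2 b.2
    rwa [_root_.neg_neg] at h⟩
  left_inv a := Subtype.ext (nu_nu a.1)
  right_inv b := Subtype.ext (nu_nu b.1)

/-- **(c)** -/
theorem blk_neg (g : chevE8.group K) : blk (-1) g = Matrix.reindex nuE nuE (blk 1 g⁻¹).transpose := by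
  ext a b
  obtain ⟨a, rfl⟩ := nuE.surjective a
  obtain ⟨b, rfl⟩ := nuE.surjective b
  rw [Matrix.reindex_apply, Matrix.submatrix_apply, Equiv.symm_apply_apply, Equiv.symm_apply_apply,
    Matrix.transpose_apply]
  show mt g (nu a.1) (nu b.1) = mt g⁻¹ b.1 a.1
  obtain ⟨a, ha⟩ := a
  obtain ⟨b, hb⟩ := b
  obtain ⟨s, rfl⟩ := InR_inr ha
  obtain ⟨v, rfl⟩ := InR_inr hb
  show mt g (Sum.inr (rv s)) (Sum.inr (rv v)) = mt g⁻¹ (Sum.inr v) (Sum.inr s)
  rw [entry_dual, rv_rv]

/-- the characteristic polynomials of the blocks of `-R` and `R` -/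
theorem blk_neg_charpoly (g : chevE8.group K) : (blk (-1) g).charpoly = (blk 1 g⁻¹).charpoly := by
  rw [blk_neg, Matrix.charpoly_reindex, Matrix.charpoly_transpose]

end Cfsg.Agent.H390.L8
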