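import Mathlib

/-!
# Subgroups of `GL₅ (q)` containing the elementary matrices at neighbours (helper390)

`dvd_card` : the order of such a subgroup is divisible by `q⁵ - 1` (it is transitive on the nonzero vectors).
-/

set_option autoImplicit false

open Matrix

namespace Cfsg.Agent.H390.L8

universe u

section Tr

variable {K : Type u} [Field K] (H : Subgroup (GL (Fin 5) K))

/-- in one orbit -/
def Rl (v w : Fin 5 → K) : Prop := ∃ g ∈ H, ((g : GL (Fin 5) K) : Matrix (Fin 5) (Fin 5) K) *ᵥ v = w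

variable {H}

theorem Rl.trans {u v w : Fin 5 → K} (h1 : Rl H u v) (h2 : Rl H v w) : Rl H u w := by
  obtain ⟨g, hg, rfl⟩ := h1
  obtain ⟨k, hk, rfl⟩ := h2
  refine ⟨k * g, mul_mem hk hg, ?_⟩
  rw [Units.val_mul, Matrix.mulVec_mulVec]

theorem Rl.symm {u v : Fin 5 → K} (h1 : Rl H u v) : Rl H v u := by
  obtain ⟨g, hg, rfl⟩ := h1
  refine ⟨g⁻¹, inv_mem hg, ?_⟩
  rw [Matrix.mulVec_mulVec, ← Units.val_mul, inv_mul_cancel, Units.val_one, Matrix.one_mulVec]

theorem transvection_mulVec (i j : Fin 5) (c : K) (v : Fin 5 → K) :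
    Matrix.transvection i j c *ᵥ v = Function.update v i (v i + c * v j) := by
  ext k
  unfold Matrix.transvection
  rw [Matrix.add_mulVec, Matrix.one_mulVec, Pi.add_apply]
  by_cases h : k = i
  · subst h
    rw [Function.update_self]
    congr 1
    simp [Matrix.mulVec, dotProduct, Matrix.single_apply]
  · rw [Function.update_of_ne h]
    have : (Matrix.single i j c *ᵥ v) k = 0 := by
      simp [Matrix.mulVec, dotProduct, Matrix.single_apply, Ne.symm h]
    rw [this, add_zero]

theorem step {i j : Fin 5} (h : ∀ c : K, ∃ g ∈ H, ((g : GL (Fin 5) K) : Matrix (Fin 5) (Fin 5) K) =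
    Matrix.transvection i j c) {v : Fin 5 → K} (hj : v j ≠ 0) (a : K) : Rl H v (Function.update v i a) := by
  obtain ⟨g, hg, h1⟩ := h ((a - v i) / v j)
  refine ⟨g, hg, ?_⟩
  rw [h1, transvection_mulVec, div_mul_cancel₀ _ hj, add_sub_cancel]

variable (h1 : ∀ (i : Fin 4) (c : K), ∃ g ∈ H, ((g : GL (Fin 5) K) : Matrix (Fin 5) (Fin 5) K) =
    Matrix.transvection i.succ i.castSucc c)
  (h2 : ∀ (i : Fin 4) (c : K), ∃ g ∈ H, ((g : GL (Fin 5) K) : Matrix (Fin 5) (Fin 5) K) =
    Matrix.transvection i.castSucc i.succ c)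

include h1 h2

theorem to_one {v : Fin 5 → K} (hv : v 0 ≠ 0) : Rl H v 1 := by
  have s1 : Rl H v (Function.update v 1 1) := step (h1 0) hv 1
  have s2 := step (H := H) (h1 1) (v := Function.update v 1 1) (by simp) 1
  have s3 := step (H := H) (h1 2) (v := Function.update (Function.update v 1 1) 2 1) (by simp) 1
  have s4 := step (H := H) (h1 3) (v := Function.update (Function.update (Function.update v 1 1) 2 1) 3 1) (by simp) 1
  have s5 := step (H := H) (h2 0) (v := Function.update (Function.update (Function.update (Function.update v 1 1) 2 1) 3 1) 4 1)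
    (by simp) 1
  have h := (((s1.trans s2).trans s3).trans s4).trans s5
  convert h using 1
  ext k
  fin_cases k <;> simp [Function.update_apply]

theorem to_one1 {v : Fin 5 → K} (hv : v 1 ≠ 0) : Rl H v 1 :=
  (step (h2 0) hv 1).trans (to_one h1 h2 (by simp))

theorem to_one2 {v : Fin 5 → K} (hv : v 2 ≠ 0) : Rl H v 1 :=
  (step (h2 1) hv 1).trans (to_one1 h1 h2 (by simp))

theorem to_one3 {v : Fin 5 → K} (hv : v 3 ≠ 0) : Rl H v 1 :=
  (step (h2 2) hv 1).trans (to_one2 h1 h2 (by simp))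

theorem to_one4 {v : Fin 5 → K} (hv : v 4 ≠ 0) : Rl H v 1 :=
  (step (h2 3) hv 1).trans (to_one3 h1 h2 (by simp))

theorem to_one_all {v : Fin 5 → K} (hv : v ≠ 0) : Rl H v 1 := by
  obtain ⟨k, hk⟩ : ∃ k, v k ≠ 0 := by
    by_contra h
    push Not at h
    exact hv (funext h)
  fin_cases k
  · exact to_one h1 h2 hk
  · exact to_one1 h1 h2 hk
  · exact to_one2 h1 h2 hk
  · exact to_one3 h1 h2 hk
  · exact to_one4 h1 h2 hk

theorem dvd_card [Fintype K] : Fintype.card K ^ 5 - 1 ∣ Nat.card H := by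
  classical
  let act : MulAction H {v : Fin 5 → K // v ≠ 0} :=
    { smul := fun g v => ⟨((g : GL (Fin 5) K) : Matrix (Fin 5) (Fin 5) K) *ᵥ v.1, fun h => v.2 (by
        have h3 := congrArg (fun w => (((g⁻¹ : H) : GL (Fin 5) K) : Matrix (Fin 5) (Fin 5) K) *ᵥ w) h
        simp only [Matrix.mulVec_mulVec, Matrix.mulVec_zero] at h3
        rwa [Subgroup.coe_inv, ← Units.val_mul, inv_mul_cancel, Units.val_one, Matrix.one_mulVec] at h3)⟩
      one_smul := fun v => Subtype.ext (Matrix.one_mulVec v.1)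
      mul_smul := fun g k v => Subtype.ext (Matrix.mulVec_mulVec v.1 _ _).symm }
  have hp : MulAction.IsPretransitive H {v : Fin 5 → K // v ≠ 0} := by
    refine ⟨fun v w => ?_⟩
    obtain ⟨g, hg, h3⟩ := (to_one_all h1 h2 v.2).trans (to_one_all h1 h2 w.2).symm
    exact ⟨⟨g, hg⟩, Subtype.ext h3⟩
  have hc : Nat.card {v : Fin 5 → K // v ≠ 0} = Fintype.card K ^ 5 - 1 := by
    rw [Nat.card_eq_fintype_card, Fintype.card_subtype_compl, Fintype.card_subtype_eq]
    simp
  rw [← hc, ← MulAction.index_stabilizer_of_transitive H (⟨1, one_ne_zero⟩ : {v : Fin 5 → K // v ≠ 0})]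
  exact Subgroup.index_dvd_card _

end Tr

end Cfsg.Agent.H390.L8
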