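import Cfsg.Agent.H390.L8.Gen
import Cfsg.Agent.H390.L8.Trans
import Cfsg.Agent.H624.L8.KTwo

/-!
# `E₈ (q)`, box K3 of `H596.L8` (helper390): the element of `11`-power order
-/

set_option autoImplicit false
set_option linter.unusedSectionVars false

namespace Cfsg.Agent.H390.L8

open Cfsg CoxeterSystem Cfsg.Agent.ChevalleyStructure.CoxeterGeom Cfsg.Agent.Tits.Roots Cfsg.Agent.Tits.Core
  Cfsg.Agent.Tits.RootComb Cfsg.Agent.Nodes.Reps Cfsg.Agent.Nodes.BNOf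
  Cfsg.Agent.Nodes.StabComb Cfsg.Agent.Nodes.Bruhat Cfsg.Agent.Nodes.LeviDec Cfsg.Agent.H35.Poin
  Cfsg.Agent.H35.PoinNum Cfsg.Agent.H35.ExcIdx
  Cfsg.Agent.ChevalleyStructure.CoxeterGeomTypes Cfsg.Lie
open Cfsg.Agent.H596.L8

universe u

variable (K : Type u) [Field K]

/-- the action of `SA` on the five coordinates of `R` -/
noncomputable def rho : ↥(SA K) →* Matrix (Fin 5) (Fin 5) K where
  toFun g := (blk 1 (g : chevE8.group K)).submatrix R2 R2
  map_one' := by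
    show (blk 1 (1 : chevE8.group K)).submatrix R2 R2 = 1
    rw [blk_one, Matrix.submatrix_one_equiv]
  map_mul' g h := by
    show (blk 1 ((g : chevE8.group K) * (h : chevE8.group K))).submatrix R2 R2 = _
    rw [blk_mul 1 g.2, Matrix.submatrix_mul_equiv]

theorem rho_apply (g : ↥(SA K)) : rho K g = (blk 1 (g : chevE8.group K)).submatrix R2 R2 := rfl

theorem rho_eq_one {g : ↥(SA K)} : rho K g = 1 ↔ blk 1 (g : chevE8.group K) = 1 := by
  rw [rho_apply]
  constructor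
  · intro h
    ext a b
    obtain ⟨a, rfl⟩ := R2.surjective a
    obtain ⟨b, rfl⟩ := R2.surjective b
    have h1 := congrFun (congrFun h a) b
    rw [Matrix.submatrix_apply] at h1
    rw [h1, Matrix.one_apply, Matrix.one_apply]
    by_cases h2 : a = b
    · rw [if_pos h2, if_pos (by rw [h2])]
    · rw [if_neg h2, if_neg (fun h3 => h2 (R2.injective h3))]
  · intro h
    rw [h, Matrix.submatrix_one_equiv]

/-- **K3** -/
theorem k3 (K : Type u) [Field K] [Fintype K] : K3 K := by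
  classical
  intro hq
  have h11 : Fact (Nat.Prime 11) := ⟨by norm_num⟩
  let ρ : ↥(SA K) →* GL (Fin 5) K := (rho K).toHomUnits
  have hρ : ∀ g : ↥(SA K), ((ρ g : GL (Fin 5) K) : Matrix (Fin 5) (Fin 5) K) = rho K g := fun g =>
    MonoidHom.coe_toHomUnits (rho K) g
  have hd := dvd_card (K := K) (H := ρ.range)
    (fun i c => by
      obtain ⟨g, hg, h⟩ := gen_succ i c
      exact ⟨ρ ⟨g, hg⟩, ⟨_, rfl⟩, by rw [hρ, rho_apply, h]⟩)
    (fun i c => by
      obtain ⟨g, hg, h⟩ := gen_pred i c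
      exact ⟨ρ ⟨g, hg⟩, ⟨_, rfl⟩, by rw [hρ, rho_apply, h]⟩)
  have h1 : 11 ∣ Fintype.card K ^ 5 - 1 := by
    rw [← ZMod.natCast_eq_zero_iff, Nat.cast_sub (Nat.one_le_pow _ _ Fintype.card_pos), Nat.cast_pow, Nat.cast_one,
      ← hq, pow_orderOf_eq_one, sub_self]
  obtain ⟨⟨h, y, hy⟩, hh⟩ := exists_prime_orderOf_dvd_card' (G := ρ.range) 11 (h1.trans hd)
  have hh' : orderOf h = 11 := by rw [← hh, ← Subgroup.orderOf_coe]
  have hfin : Finite ↥(SA K) := inferInstance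
  have hn := (orderOf_pos y).ne'
  obtain ⟨k, m, hm, hk⟩ := Nat.exists_eq_pow_mul_and_not_dvd hn 11 (by norm_num)
  have hm0 : m ≠ 0 := by
    rintro rfl
    exact hm (dvd_zero 11)
  have ho : orderOf (y ^ m) = 11 ^ k := by
    rw [orderOf_pow_of_dvd hm0 (hk ▸ Dvd.intro_left _ rfl), hk, Nat.mul_div_cancel _ (Nat.pos_of_ne_zero hm0)]
  have h2 : ρ (y ^ m) = h ^ m := by rw [map_pow, hy]
  have h3 : blk 1 ((y ^ m : ↥(SA K)) : chevE8.group K) ≠ 1 := by
    intro h4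
    rw [← rho_eq_one, ← hρ, h2, Units.val_eq_one] at h4
    rw [← orderOf_dvd_iff_pow_eq_one, hh'] at h4
    exact hm h4
  have h4 : blk 1 ((y ^ m : ↥(SA K)) : chevE8.group K) ^ 11 = 1 := by
    rw [← blk_pow 1 (y ^ m).2, ← SubgroupClass.coe_pow, ← rho_eq_one, ← hρ, map_pow, h2, Units.val_eq_one, ← pow_mul,
      mul_comm, pow_mul, ← hh', pow_orderOf_eq_one, one_pow]
  obtain ⟨h5, h6⟩ := Cfsg.Agent.H624.L8.k2 hq _ (blk 1 ((y ^ m : ↥(SA K)) : chevE8.group K)⁻¹) card_R h4 h3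
    (blk_mul_inv 1 (y ^ m).2)
  refine ⟨((y ^ m : ↥(SA K)) : chevE8.group K), (y ^ m).2, ⟨k, ?_⟩, h5, ?_⟩
  · rw [Subgroup.orderOf_coe, ho]
  · rw [blk_neg_charpoly]
    exact h6

end Cfsg.Agent.H390.L8
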